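import Cfsg.Agent.FT.S15k

set_option autoImplicit false

namespace CfsgFT

open Subgroup Cfsg CfsgH2 CfsgLead
open CfsgH1 (IsPiNum Fac)
open CfsgPF (Vset mem_Vset TI MF)
open scoped commutatorElement

variable {G : Type*} [Group G] {π : Set ℕ} {p q r : ℕ} [Finite G]

omit [Finite G] in
theorem piNum_of_mem_zpowers {a b : G} (h : b ∈ zpowers a) (ha : IsPiNum π (orderOf a)) :
    IsPiNum π (orderOf b) := (isPi_zpowers.2 ha).orderOf h

omit [Finite G] in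
theorem orderOf_cjg (g a : G) : orderOf (g * a * g⁻¹) = orderOf a :=
  (MulAut.conj g).orderOf_eq a

omit [Finite G] in
theorem cjg_mem_zpowers {a b : G} (g : G) (h : b ∈ zpowers a) :
    g * b * g⁻¹ ∈ zpowers (g * a * g⁻¹) := cj_zpowers g a ▸ conj_mem_cj g h

namespace FQ
variable {Q D K : Subgroup G}

/-- BG 15.2(h): `|Q / C_Q(D)| = q ^ |K|` -/
theorem card_eq (h : FQ Q D K) :
    Nat.card Q = Nat.card ↥(Q ⊓ C(D)) * Nat.card ↥(Q ⊓ C(K)) ^ Nat.card K := by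
  have := h.n1; have := h.n2; have := h.n3
  have nK : K ≤ N(Q ⊓ C(D)) := by nrm
  have nD : D ≤ N(Q ⊓ C(D)) := by nrm
  have s0 := isSolvable_of_le (inf_le_left : Q ⊓ C(D) ≤ Q) h.solQ
  have c0 := coprime_mono h.c1 le_rfl (inf_le_left : Q ⊓ C(D) ≤ Q)
  have e := CfsgH1.wielandt_of_cent_eq_bot (solvable_quo h.solQ (Q ⊓ C(D))) (quo_le_norm h.n3)
    (quo_le_norm h.n2) (quo_le_norm h.n1) (solvable_quo h.sol _) (coprime_quo h.c3 _)
    (coprime_quo h.c1 _) (fun _ hx x1 => (h.reg.quo nD nK h.n1 c0 s0).cent1 hx x1) (by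
      rw [← quo_inf_cent nD h.norm0 h.n3 (coprime_mono h.c3 le_rfl inf_le_left) (Or.inr s0), quo_self])
  rw [card_quo_of_disjoint nK (inf_eq_bot_of_coprime' c0), ← quo_inf_cent nK h.norm0 h.n2 c0 (Or.inr s0),
    card_quo_of_disjoint (inf_le_left.trans h.norm0) (inf_eq_bot_of_card_prime h.pr fun e =>
      h.not_Ks_le (e.trans inf_le_right)), card_quo h.norm0] at e
  rw [← e, card_mul_relIndex inf_le_left]

theorem pow_mem [hq : Fact q.Prime] (h : FQ Q D K) (hQ : IsPGroup q Q) {a : G} (ha : a ∈ Q) :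
    a ^ q ∈ Q ⊓ C(D) := by
  have := h.n1; have := h.n2; have := h.n3
  have nF := normalizer_le_normalizer_map_frattini Q
  have h1 : K ≤ N((frattini Q).map Q.subtype) := h.n2.trans nF
  have h2 : D ≤ N((frattini Q).map Q.subtype) := h.n3.trans nF
  suffices (frattini Q).map Q.subtype ≤ Q ⊓ C(D) from this (pow_mem_map_frattini hQ ha)
  by_contra e
  have k := h.eq_of_lt (T := Q ⊓ C(D) ⊔ (frattini Q).map Q.subtype) (left_lt_sup.2 e)
    (sup_le inf_le_left (map_subtype_le _)) (by nrm) (by nrm)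
  refine h.nc ?_
  have : (Q ⊓ C(D)).subgroupOf Q = ⊤ := by
    refine frattini_nongenerating ?_
    rw [← subgroupOf_map_subtype_self (frattini Q), ← sup_subgroupOf inf_le_left (map_subtype_le _), k,
      subgroupOf_self]
  exact (subgroupOf_eq_top.1 this).trans inf_le_right

end FQ

variable [hG : Fact (IsMinSimpleOddOrder G)] {M K U X : Subgroup G}

theorem NN.fq [Fact q.Prime] {Q D : Subgroup G} (h : NN q M K Q) (hn : ¬ Group.IsNilpotent (Ms M))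
    (hD : Hall {q}ᶜ D (Ms M)) (nD : K ≤ N(D)) : FQ Q D K := by
  have pQ := h.sylow.pgroup
  have cD := (coprime_pgroup_p' pQ hD.isPi).symm
  have cop := sc_cop (h.pt.hall_of_P1 h.P1)
  have nilD := h.nil_of hD.le hD.isPi
  have eK : Q ⊓ C(K) = Ks M K :=
    le_antisymm (inf_le_inf_right _ h.sylow.le) (le_inf h.le inf_le_right)
  exact ⟨pQ.isNilpotent, isSolvable_of_nilpotent nilD, nD, h.pt.le.trans h.n,
    hD.le.trans ((Ms_le M).trans h.n), coprime_mono cop le_rfl h.sylow.le, cD, h.pt.ne,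
    fun X l b => eq_bot_of_le_of_le inf_le_left
      ((inf_le_inf_right _ hD.le).trans ((h.pt.cent_eq l b).le.trans h.le)) (inf_eq_bot_of_coprime' cD),
    h.pt.prim.mono h.sylow.le le_rfl, by rw [eK, h.card]; exact Fact.out, fun e =>
      hn (h.sylow.hall.sup_eq hD ▸ nilpotent_sup_of_cent pQ.isNilpotent nilD e)⟩

namespace KD

theorem mem_MsU (h : KD M K U) {a : G} (ha : a ∈ M) (ho : IsPiNum (kappa M)ᶜ (orderOf a)) :
    a ∈ U ⊔ Ms M := by
  rw [sup_comm]; exact h.hall_MsU.mem_of_normal h.n_MsU ha ho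

theorem kappa'_of_mem (h : KD M K U) {a : G} (ha : a ∈ U ⊔ Ms M) :
    IsPiNum (kappa M)ᶜ (orderOf a) := h.hall_MsU.isPi.orderOf (by rwa [sup_comm])

theorem uq_of_A (h : KD M K U) {a b : G} (ha : a ∈ sigmaA M U) (hb : b ∈ zpowers a) (b1 : b ≠ 1)
    (ho : IsPiNum (sigma M)ᶜ (orderOf b)) : Uq C1(b) M := by
  obtain ⟨⟨h1, y, hy, y1, e⟩, h2⟩ := ha
  rcases pi_of_cent_sigma h.max hy y1 (zpowers_le.2 h1 hb) b1
    (zpowers_le.2 (mem_cent1'.2 e) hb) ho with k | k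
  · exact absurd (eq_one_of_pi k.1 (piNum_of_mem_zpowers hb (h.kappa'_of_mem h2))) b1
  · exact k.2.2

omit [Finite G] hG in
theorem conj_hat {a m : G} (hm : m ∈ M) (ha : a ∈ sigmaHat M) : m * a * m⁻¹ ∈ sigmaHat M := by
  obtain ⟨h1, y, hy, y1, e⟩ := ha
  refine ⟨mul_mem (mul_mem hm h1) (inv_mem hm), m * y * m⁻¹,
    (mem_normalizer_iff.1 (le_normalizer_Opi (sigma M) M hm) y).1 hy, CfsgPF.conj_ne_one.2 y1, ?_⟩
  calc _ = m * (a * y) * m⁻¹ := by group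
    _ = _ := by rw [e]; group

theorem conj_A (h : KD M K U) {a m : G} (hm : m ∈ M) (ha : a ∈ sigmaA M U) :
    m * a * m⁻¹ ∈ sigmaA M U :=
  ⟨conj_hat hm ha.1, h.mem_MsU (conj_hat hm ha.1).1 (by
    rw [orderOf_cjg]; exact h.kappa'_of_mem ha.2)⟩

/-- BG Theorem B(5) -/
theorem ti_A (h : KD M K U) : TI (sigmaA M U \ (Ms M : Set G)) M := by
  intro g a ha _ hg
  obtain ⟨s, -, b, hb, e, hs, hb'⟩ := exists_pi_part (sigma M) a
  have b1 : b ≠ 1 := fun e' => ha.2 (mem_Ms h.max ha.1.1.1 (by rwa [← e, e', mul_one]))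
  have h1 := (h.uq_of_A ha.1 hb b1 hb').cj g
  have h2 := h.uq_of_A hg.1 (cjg_mem_zpowers g hb) (CfsgPF.conj_ne_one.2 b1) (by rwa [orderOf_cjg])
  rw [cj_centralizer_singleton] at h1
  exact mem_of_cj_max_eq h.max (h2.uniq _ h1.max h1.le)

theorem le_norm_A (h : KD M K U) : M ≤ normalizer (sigmaA M U \ (Ms M : Set G)) :=
  CfsgPF.le_normalizer_set fun m hm a ha => ⟨h.conj_A hm ha.1, fun e =>
    ha.2 ((mem_normalizer_iff.1 (le_normalizer_Opi (sigma M) M hm) a).2 e)⟩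

/-- BG Theorem C(9) -/
theorem V_eq (h : KD M K U) (hK : K ≠ ⊥) :
    {a : G | ∃ m ∈ M, ∃ z ∈ Vset K (Ks M K), a = m * z * m⁻¹} = sigmaA0 M K \ sigmaA M U := by
  have pt := h.pt hK
  ext a
  constructor
  · rintro ⟨m, hm, z, hz, rfl⟩
    obtain ⟨y, hy, y1, t, ht, t1, rfl⟩ := pt.mem_V.1 hz
    obtain ⟨z1, z2⟩ := pt.zpowers_le hy ht
    refine ⟨⟨conj_hat hm ⟨pt.Z_le (mem_Vset.1 hz).1, y, (mem_inf.1 hy).1, y1, ?_⟩, ?_⟩, fun e => t1 ?_⟩
    · rw [mul_assoc, mem_cent.1 (mem_inf.1 hy).2 t ht]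
    · rintro ⟨k, hk, -, n, -, e⟩
      refine y1 (eq_one_of_pi ((isPi_Ms M).orderOf (mem_inf.1 hy).1) (piNum_of_mem_zpowers z1 ?_))
      rw [← orderOf_cjg m, e, orderOf_cjg]
      exact pt.isPi'.orderOf hk
    · refine eq_one_of_pi (h.hK.isPi.orderOf ht) (piNum_of_mem_zpowers z2 ?_)
      rw [← orderOf_cjg m]
      exact h.kappa'_of_mem e.2
  · rintro ⟨⟨h1, h2⟩, h3⟩
    obtain ⟨t, ht, b, -, e, hs, hb'⟩ := exists_pi_part (kappa M) a
    have t1 : t ≠ 1 := fun e' => h3 ⟨h1, h.mem_MsU h1.1 (by rwa [← e, e', one_mul])⟩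
    obtain ⟨m, hm, l⟩ := h.hK.exists_cj_le (maxSol h.max) (isPi_zpowers.2 hs)
      (zpowers_le.2 (zpowers_le.2 h1.1 ht))
    have h4 : m * t * m⁻¹ ∈ K := l (conj_mem_cj m (mem_zpowers t))
    have h5 := cjg_mem_zpowers m ht
    have t2 := (CfsgPF.conj_ne_one (g := m)).2 t1
    refine ⟨m⁻¹, inv_mem hm, m * a * m⁻¹, mem_Vset.2 ⟨?_, fun e' => h2 ⟨_, e', fun e'' => t2 ?_,
      m⁻¹, inv_mem hm, by group⟩, fun e' => t2 ?_⟩, by group⟩
    · rw [← pt.cent1_M h4 t2]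
      exact mem_inf.2 ⟨(conj_hat hm h1).1, mem_cent1_symm (zpowers_le.2 (self_mem_cent1 _) h5)⟩
    · rwa [e'', zpowers_one_eq_bot, mem_bot] at h5
    · exact eq_one_of_pi (piNum_of_mem_zpowers h5 ((isPi_Ms M).orderOf (mem_inf.1 e').1))
        (pt.isPi'.orderOf h4)

theorem ti_V (h : KD M K U) (hK : K ≠ ⊥) : TI (sigmaA0 M K \ sigmaA M U) M := by
  intro g a ha _ hg
  have h1 := hg.1.1.1
  rw [← h.V_eq hK] at ha
  obtain ⟨m, hm, z, hz, rfl⟩ := ha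
  have := (h.pt hK).mem_of_V hz (g := (g * m)⁻¹) (mem_cj.2 (by simpa [mul_assoc] using h1))
  simpa using mul_mem (inv_mem this) (inv_mem hm)

theorem le_norm_V (h : KD M K U) (hK : K ≠ ⊥) : M ≤ normalizer (sigmaA0 M K \ sigmaA M U) := by
  rw [← h.V_eq hK]
  refine CfsgPF.le_normalizer_set ?_
  rintro m hm _ ⟨n, hn, z, hz, rfl⟩
  exact ⟨m * n, mul_mem hm hn, z, hz, by group⟩

end KD

theorem Sig.mem_A {x : G} {N : Subgroup G} (h : Sig x N) (kd : KD N K U) : x ∈ sigmaA N U := by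
  obtain ⟨y, hy, y1⟩ := exists_mem_ne_one h.ne
  exact ⟨⟨h.mem, y, (mem_inf.1 hy).1, y1, mem_cent1.1 (mem_inf.1 hy).2⟩,
    kd.mem_MsU h.mem fun q hq d k => kappa_not_tau2 k (h.tau2 q hq d)⟩

/-- BG 14.13(b) -/
theorem Sig.conj {x y g : G} {N N' : Subgroup G} (h : Sig x N) (h' : Sig y N') (hM : IsCoatom M)
    (hx : x ∈ Ms M) (hy : y ∈ Ms M) (e : cj g N' = N) : ∃ m ∈ M, cj m N' = N := by
  subst e
  have h1 := (h'.hall M hM hy).cj g
  rw [← sigma_cj g] at h1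
  obtain ⟨n, hn, e⟩ := h1.exists_cj_eq (maxSol h.max) (h.hall M hM hx)
  obtain ⟨q, hq, -⟩ := h.exists_tau2
  have := Fact.mk hq.1
  obtain ⟨A, hA⟩ := exists_elem_sc (h.hall M hM hx) hq
  refine ⟨n * g, mem_of_elem_le_cj hM (h.sub M hM hx q hq) hA (hA.le.trans inf_le_left) ?_,
    by rw [← cj_cj, cj_eq_of_mem hn]⟩
  rw [cj_cj] at e
  exact hA.le.trans (e.ge.trans (cj_mono _ inf_le_left))

end CfsgFT
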